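import Groth.Prelude.Def_AssocGr
import Mathlib.Data.ZMod.Basic
import Mathlib.RingTheory.Int.Basic
import Mathlib.GroupTheory.OrderOfElement
import Mathlib.GroupTheory.Archimedean

/-!
# Elements of consecutive degrees outside a relevant prime of the associated graded ring
-/

set_option autoImplicit false
universe u

noncomputable section

namespace GrothLib.FiltLC27

open AssocGr

variable {A : Type u} [CommRing A] (𝓕 : FiltBl.IdealFiltration A)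

open Classical in
/-- the class in degree `n` (zero outside `F n`) -/
def cls (n : ℕ) (x : A) : GrRing 𝓕 := if h : x ∈ 𝓕.F n then (inDeg 𝓕 n ⟨x, h⟩ : GrRing 𝓕) else 0

theorem cls_eq {n : ℕ} {x : A} (h : x ∈ 𝓕.F n) : cls 𝓕 n x = (inDeg 𝓕 n ⟨x, h⟩ : GrRing 𝓕) := dif_pos h

theorem cls_mul {m n : ℕ} {x y : A} (hx : x ∈ 𝓕.F m) (hy : y ∈ 𝓕.F n) :
    cls 𝓕 m x * cls 𝓕 n y = cls 𝓕 (m + n) (x * y) := by
  rw [cls_eq 𝓕 hx, cls_eq 𝓕 hy, cls_eq 𝓕 (𝓕.mul_le m n (Ideal.mul_mem_mul hx hy))]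
  exact coe_inDeg_mul 𝓕 m n ⟨x, hx⟩ ⟨y, hy⟩

theorem cls_eq_zero_iff {n : ℕ} {x : A} (h : x ∈ 𝓕.F n) : cls 𝓕 n x = 0 ↔ x ∈ 𝓕.F (n + 1) := by
  rw [cls_eq 𝓕 h, Submodule.coe_eq_zero, inDeg_eq_zero_iff]

theorem mul_mem_F {m n : ℕ} {x y : A} (hx : x ∈ 𝓕.F m) (hy : y ∈ 𝓕.F n) : x * y ∈ 𝓕.F (m + n) :=
  𝓕.mul_le m n (Ideal.mul_mem_mul hx hy)

theorem pow_mem_F {m : ℕ} {x : A} (hx : x ∈ 𝓕.F m) : ∀ j : ℕ, x ^ j ∈ 𝓕.F (m * j)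
  | 0 => by rw [pow_zero, mul_zero, 𝓕.zero_eq]; trivial
  | j + 1 => by rw [pow_succ, mul_add_one]; exact mul_mem_F 𝓕 (pow_mem_F hx j) hx

theorem cls_zero_one : cls 𝓕 0 1 = 1 := by
  rw [cls_eq 𝓕 (by rw [𝓕.zero_eq]; trivial)]
  exact (AssocGr.algebraMap_eq 𝓕 1).symm.trans (map_one _)

theorem cls_pow {m : ℕ} {x : A} (hx : x ∈ 𝓕.F m) : ∀ j : ℕ, cls 𝓕 m x ^ j = cls 𝓕 (m * j) (x ^ j)
  | 0 => by rw [pow_zero, pow_zero, mul_zero, cls_zero_one]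
  | j + 1 => by rw [pow_succ, cls_pow hx j, cls_mul 𝓕 (pow_mem_F 𝓕 hx j) hx, pow_succ, mul_add_one]

theorem cls_mem_gr (n : ℕ) (x : A) : cls 𝓕 n x ∈ gr 𝓕 n := by
  unfold cls
  split_ifs with h
  · exact (inDeg 𝓕 n ⟨x, h⟩).2
  · exact zero_mem _

theorem exists_cls_eq {n : ℕ} {g : GrRing 𝓕} (hg : g ∈ gr 𝓕 n) : ∃ x ∈ 𝓕.F n, cls 𝓕 n x = g := by
  obtain ⟨⟨x, hx⟩, h⟩ := inDeg_surjective 𝓕 n ⟨g, hg⟩
  exact ⟨x, hx, by rw [cls_eq 𝓕 hx, h]⟩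

/-- An element of a degree congruent to one. -/
theorem exists_degree_one_mod [IsDomain (GrRing 𝓕)]
    (hr : ∀ r : ℕ, 2 ≤ r → ∃ n : ℕ, ¬ r ∣ n ∧ gr 𝓕 n ≠ ⊥) {N : ℕ} (hN : 0 < N) {T : A} (hT : T ∈ 𝓕.F N)
    (hT0 : cls 𝓕 N T ≠ 0) : ∃ (d : ℕ) (C : A), C ∈ 𝓕.F (d * N + 1) ∧ cls 𝓕 (d * N + 1) C ≠ 0 := by
  classical
  haveI : NeZero N := ⟨hN.ne'⟩
  let S : AddSubmonoid (ZMod N) :=
    { carrier := {z | ∃ n : ℕ, (n : ZMod N) = z ∧ ∃ x ∈ 𝓕.F n, cls 𝓕 n x ≠ 0}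
      zero_mem' := ⟨0, Nat.cast_zero, 1, by rw [𝓕.zero_eq]; trivial, by rw [cls_zero_one]; exact one_ne_zero⟩
      add_mem' := by
        rintro _ _ ⟨m, rfl, x, hx, hx0⟩ ⟨n, rfl, y, hy, hy0⟩
        exact ⟨m + n, Nat.cast_add m n, x * y, mul_mem_F 𝓕 hx hy, by
          rw [← cls_mul 𝓕 hx hy]; exact mul_ne_zero hx0 hy0⟩ }
  let H : AddSubgroup ℤ :=
    { carrier := {z | (z : ZMod N) ∈ S}
      zero_mem' := by simpa using S.zero_mem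
      add_mem' := fun {a b} ha hb => by simpa using S.add_mem ha hb
      neg_mem' := fun {a} ha => by
        have h : (-(a : ZMod N)) = (addOrderOf (a : ZMod N) - 1) • (a : ZMod N) := by
          rw [neg_eq_iff_add_eq_zero, ← succ_nsmul', Nat.sub_add_cancel (addOrderOf_pos _),
            addOrderOf_nsmul_eq_zero]
        simpa [h] using S.nsmul_mem ha _ }
  obtain ⟨g, hg⟩ := Int.subgroup_cyclic H
  have hdvd : ∀ n : ℕ, gr 𝓕 n ≠ ⊥ → g.natAbs ∣ n := fun n hn => by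
    obtain ⟨x, hx, hx0⟩ := Submodule.exists_mem_ne_zero_of_ne_bot hn
    obtain ⟨a, ha, rfl⟩ := exists_cls_eq 𝓕 hx
    have h : (n : ℤ) ∈ H := ⟨n, by simp, a, ha, hx0⟩
    rw [hg, AddSubgroup.mem_closure_singleton] at h
    obtain ⟨k, hk⟩ := h
    exact Int.natAbs_dvd_natAbs.2 (show g ∣ (n : ℤ) from ⟨k, by rw [← hk, smul_eq_mul, mul_comm]⟩)
  have hg1 : g.natAbs = 1 := by
    by_contra hne
    rcases Nat.eq_zero_or_pos g.natAbs with h0 | hpos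
    · obtain ⟨n, hn, hn0⟩ := hr 2 le_rfl
      have := hdvd n hn0
      rw [h0, Nat.zero_dvd] at this
      exact hn (this ▸ dvd_zero 2)
    · obtain ⟨n, hn, hn0⟩ := hr g.natAbs (by omega)
      exact hn (hdvd n hn0)
  have hone : (1 : ℤ) ∈ H := by
    rw [hg, AddSubgroup.mem_closure_singleton]
    rcases Int.natAbs_eq_iff.1 hg1 with h | h
    · exact ⟨1, by simp [h]⟩
    · exact ⟨-1, by simp [h]⟩
  have hone' : ((1 : ℤ) : ZMod N) ∈ S := hone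
  obtain ⟨m, hm, x, hx, hx0⟩ := hone'
  have hmod : ((m + N : ℕ) : ZMod N) = ((1 : ℕ) : ZMod N) := by simp [hm]
  have hdiv := (Nat.modEq_iff_dvd' (show 1 ≤ m + N by omega)).1 ((ZMod.natCast_eq_natCast_iff _ _ _).1 hmod).symm
  obtain ⟨d, hd⟩ := hdiv
  have he : d * N + 1 = m + N := by rw [mul_comm]; omega
  refine ⟨d, x * T, he ▸ mul_mem_F 𝓕 hx hT, ?_⟩
  rw [he, ← cls_mul 𝓕 hx hT]
  exact mul_ne_zero hx0 hT0

/-- Elements of consecutive degrees outside the prime. -/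
theorem exists_consecutive [IsDomain A] (P : Ideal (GrRing 𝓕)) [P.IsPrime]
    (hr : ∀ r : ℕ, 2 ≤ r → ∃ n : ℕ, ¬ r ∣ n ∧ gr 𝓕 n ≠ ⊥) [IsDomain (GrRing 𝓕)]
    {N : ℕ} (hN : 0 < N) {T : A} (hT : T ∈ 𝓕.F N) (hTP : cls 𝓕 N T ∉ P)
    {k : ℕ} {a s : A} (ha : a ∈ 𝓕.F (k + 1)) (hs : s ∈ 𝓕.F k) (hsP : cls 𝓕 k s ∉ P)
    (hgen : ∀ (i : ℕ) (c v : A), c ∈ 𝓕.F (i + 1) → v ∈ 𝓕.F i → cls 𝓕 i v ∉ P →
      ∃ (l : ℕ) (r w : A), r ∈ 𝓕.F l ∧ w ∈ 𝓕.F l ∧ cls 𝓕 l w ∉ P ∧ c * w * s = r * a * v) :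
    cls 𝓕 (k + 1) a ∉ P := by
  have hne : ∀ {g : GrRing 𝓕}, g ∉ P → g ≠ 0 := fun hg h => hg (h ▸ P.zero_mem)
  have hA0 : ∀ {n : ℕ} {x : A}, x ∈ 𝓕.F n → cls 𝓕 n x ≠ 0 → x ≠ 0 := fun hx h hx0 =>
    h ((cls_eq_zero_iff 𝓕 hx).2 (hx0 ▸ zero_mem _))
  obtain ⟨d, C, hC, hC0⟩ := exists_degree_one_mod 𝓕 hr hN hT (hne hTP)
  have hTd : cls 𝓕 (d * N) (T ^ d) ∉ P := by
    rw [mul_comm, ← cls_pow 𝓕 hT]
    exact fun h => hTP (Ideal.IsPrime.mem_of_pow_mem ‹_› d h)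
  have hTdm : T ^ d ∈ 𝓕.F (d * N) := mul_comm N d ▸ pow_mem_F 𝓕 hT d
  have ha0 : cls 𝓕 (k + 1) a ≠ 0 := by
    intro h0
    obtain ⟨l, r, w, hr', hw, hwP, e⟩ := hgen (d * N) C (T ^ d) hC hTdm hTd
    have h1 : cls 𝓕 (d * N + 1 + l + k) (C * w * s) ≠ 0 := by
      rw [← cls_mul 𝓕 (mul_mem_F 𝓕 hC hw) hs, ← cls_mul 𝓕 hC hw]
      exact mul_ne_zero (mul_ne_zero hC0 (hne hwP)) (hne hsP)
    refine h1 ((cls_eq_zero_iff 𝓕 (mul_mem_F 𝓕 (mul_mem_F 𝓕 hC hw) hs)).2 ?_)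
    rw [e]
    exact 𝓕.antitone (by omega) (mul_mem_F 𝓕 (mul_mem_F 𝓕 hr' ((cls_eq_zero_iff 𝓕 ha).1 h0)) hTdm)
  have key : ∀ (j i : ℕ) (c v : A), c ∈ 𝓕.F (i + j) → v ∈ 𝓕.F i → cls 𝓕 i v ∉ P →
      ∃ (l : ℕ) (r w : A), r ∈ 𝓕.F l ∧ w ∈ 𝓕.F l ∧ cls 𝓕 l w ∉ P ∧ c * w * s ^ j = r * a ^ j * v := by
    intro j
    induction j with
    | zero =>
      intro i c v hc hv hvP
      exact ⟨i, c, v, by simpa using hc, hv, hvP, by simp⟩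
    | succ j ih =>
      intro i c v hc hv hvP
      obtain ⟨l, r, w, hr', hw, hwP, e⟩ := ih i c v (𝓕.antitone (by omega) hc) hv hvP
      have hz : cls 𝓕 (l + (k + 1) * j + i) (r * a ^ j * v) = 0 := by
        rw [cls_eq_zero_iff 𝓕 (mul_mem_F 𝓕 (mul_mem_F 𝓕 hr' (pow_mem_F 𝓕 ha j)) hv), ← e]
        exact 𝓕.antitone (by rw [add_one_mul]; omega) (mul_mem_F 𝓕 (mul_mem_F 𝓕 hc hw) (pow_mem_F 𝓕 hs j))
      rw [← cls_mul 𝓕 (mul_mem_F 𝓕 hr' (pow_mem_F 𝓕 ha j)) hv, ← cls_mul 𝓕 hr' (pow_mem_F 𝓕 ha j),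
        ← cls_pow 𝓕 ha, mul_eq_zero, mul_eq_zero] at hz
      rcases hz with (h | h) | h
      · obtain ⟨l', r', w', hr'', hw', hwP', e'⟩ := hgen l r w ((cls_eq_zero_iff 𝓕 hr').1 h) hw hwP
        refine ⟨l', r', w', hr'', hw', hwP', mul_right_cancel₀ (hA0 hw (hne hwP)) ?_⟩
        calc c * w' * s ^ (j + 1) * w = (c * w * s ^ j) * w' * s := by ring
          _ = (r * w' * s) * a ^ j * v := by rw [e]; ring
          _ = r' * a ^ (j + 1) * v * w := by rw [e']; ring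
      · exact absurd (eq_zero_of_pow_eq_zero h) ha0
      · exact absurd h (hne hvP)
  obtain ⟨l, r, w, hr', hw, hwP, e⟩ := key N 0 T 1 (by simpa using hT) (by rw [𝓕.zero_eq]; trivial)
    (by rw [cls_zero_one]; exact fun h => ‹P.IsPrime›.ne_top ((Ideal.eq_top_iff_one _).2 h))
  intro haP
  have h1 : cls 𝓕 (N + l + k * N) (T * w * s ^ N) ∉ P := by
    rw [← cls_mul 𝓕 (mul_mem_F 𝓕 hT hw) (pow_mem_F 𝓕 hs N), ← cls_mul 𝓕 hT hw, ← cls_pow 𝓕 hs]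
    exact fun h => ((Ideal.IsPrime.mem_or_mem ‹_› h).elim (fun h => (Ideal.IsPrime.mem_or_mem ‹_› h).elim hTP hwP)
      fun h => hsP (Ideal.IsPrime.mem_of_pow_mem ‹_› N h))
  rw [mul_one] at e
  refine h1 ?_
  rw [e, show N + l + k * N = l + (k + 1) * N by ring, ← cls_mul 𝓕 hr' (pow_mem_F 𝓕 ha N), ← cls_pow 𝓕 ha]
  exact Ideal.mul_mem_left _ _ (Ideal.pow_mem_of_mem _ haP N hN)

end GrothLib.FiltLC27
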