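import Groth.Agent.Lib.ReesGr1.Basic
import Groth.Agent.Lib.GrLC.Basic

/-!
# The grading of the extended Rees algebra
-/

set_option autoImplicit false
universe u

open DirectSum LaurentPolynomial

noncomputable section

namespace GrothLib.FiltLC27

variable {A : Type u} [CommRing A] (𝓕 : FiltBl.IdealFiltration A)

/-- the homogeneous pieces -/
def piece (n : ℤ) : AddSubgroup 𝓕.extRees where
  carrier := {x | ∀ m : ℤ, m ≠ n → (x : A[T;T⁻¹]).coeff m = 0}
  zero_mem' m _ := rfl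
  add_mem' {x y} hx hy m hm := by
    change ((x : A[T;T⁻¹]) + (y : A[T;T⁻¹])).coeff m = 0
    rw [AddMonoidAlgebra.coeff_add, Finsupp.add_apply, hx m hm, hy m hm, add_zero]
  neg_mem' {x} hx m hm := by
    change (-(x : A[T;T⁻¹])).coeff m = 0
    rw [AddMonoidAlgebra.coeff_neg, Finsupp.neg_apply, hx m hm, neg_zero]

theorem coeff_C_T (a : A) (n m : ℤ) : (C a * T n : A[T;T⁻¹]).coeff m = if n = m then a else 0 := by
  rw [← single_eq_C_mul_T, AddMonoidAlgebra.coeff_single, Finsupp.single_apply]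

theorem coe_eq_of_mem {n : ℤ} {x : 𝓕.extRees} (hx : x ∈ piece 𝓕 n) :
    (x : A[T;T⁻¹]) = C ((x : A[T;T⁻¹]).coeff n) * T n :=
  LaurentPolynomial.ext fun m => by
    rw [coeff_C_T]
    split_ifs with h
    · rw [h]
    · exact hx m (Ne.symm h)

theorem mem_piece_of_eq {n : ℤ} {x : 𝓕.extRees} {a : A} (hx : (x : A[T;T⁻¹]) = C a * T n) : x ∈ piece 𝓕 n :=
  fun m hm => by rw [hx, coeff_C_T, if_neg (Ne.symm hm)]

theorem u_mem_piece : 𝓕.u ∈ piece 𝓕 (-1) :=
  mem_piece_of_eq 𝓕 (a := 1) (by rw [map_one, one_mul]; rfl)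

instance : SetLike.GradedMonoid (piece 𝓕) where
  one_mem := mem_piece_of_eq 𝓕 (a := 1) (by rw [map_one, one_mul, T_zero]; rfl)
  mul_mem i j x y hx hy := mem_piece_of_eq 𝓕 (a := (x : A[T;T⁻¹]).coeff i * (y : A[T;T⁻¹]).coeff j) (by
    change (x : A[T;T⁻¹]) * (y : A[T;T⁻¹]) = _
    conv_lhs => rw [coe_eq_of_mem 𝓕 hx, coe_eq_of_mem 𝓕 hy]
    rw [map_mul, T_add]
    ring)

/-- a homogeneous component -/
def proj (n : ℤ) : 𝓕.extRees →+ 𝓕.extRees where
  toFun x := ReesGr1.mon 𝓕 ((x : A[T;T⁻¹]).coeff n) n (x.2 n)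
  map_zero' := Subtype.ext (by
    change C ((0 : A[T;T⁻¹]).coeff n) * T n = 0
    simp)
  map_add' x y := Subtype.ext (by
    change C (((x : A[T;T⁻¹]) + (y : A[T;T⁻¹])).coeff n) * T n = _
    rw [AddMonoidAlgebra.coeff_add, Finsupp.add_apply, map_add, add_mul]
    rfl)

theorem coe_proj (n : ℤ) (x : 𝓕.extRees) :
    (proj 𝓕 n x : A[T;T⁻¹]) = C ((x : A[T;T⁻¹]).coeff n) * T n := rfl

theorem isInternal_piece : IsInternal (piece 𝓕) :=
  GrothLib.GrLC.isInternal_of_proj (piece 𝓕) (proj 𝓕)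
    (fun g x hx => Subtype.ext (coe_eq_of_mem 𝓕 hx).symm)
    (fun g h hne x hx => Subtype.ext (by rw [coe_proj, hx g (Ne.symm hne), map_zero, zero_mul]; rfl))
    (fun g x => mem_piece_of_eq 𝓕 (coe_proj 𝓕 g x))
    (fun x => ⟨(x : A[T;T⁻¹]).coeff.support, Subtype.ext (by
      rw [AddSubmonoidClass.coe_finsetSum]
      simp only [coe_proj, ← single_eq_C_mul_T]
      exact (AddMonoidAlgebra.sum_single _).symm)⟩)

instance instGradedRing : GradedRing (piece 𝓕) :=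
  { (inferInstance : SetLike.GradedMonoid (piece 𝓕)), (isInternal_piece 𝓕).chooseDecomposition with }

/-- the generators of the ideal of positive degree -/
def posSet : Set 𝓕.extRees :=
  {x : 𝓕.extRees | ∃ n : ℤ, 0 < n ∧ ∃ a : A, (x : A[T;T⁻¹]) = C a * T n}

/-- the ideal of positive degree -/
def posIdeal : HomogeneousIdeal (piece 𝓕) :=
  ⟨Ideal.span (posSet 𝓕), Ideal.homogeneous_span _ _ fun x hx => by
    obtain ⟨n, -, a, ha⟩ := hx
    exact ⟨n, mem_piece_of_eq 𝓕 ha⟩⟩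

theorem mem_posSet_of_mem_piece {n : ℤ} (hn : 0 < n) {x : 𝓕.extRees} (hx : x ∈ piece 𝓕 n) : x ∈ posSet 𝓕 :=
  ⟨n, hn, _, coe_eq_of_mem 𝓕 hx⟩

end GrothLib.FiltLC27
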