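import Groth.Agent.Lib.FiltLC27.TwistGen
import Groth.Agent.Lib.FiltLC27.Consec
import Groth.Agent.Lib.GrNormal27.Proj
import Groth.Agent.Lib.GrNormal27.Main

/-!
# Finite length of the normalisation cokernel of the associated graded ring
-/

set_option autoImplicit false
set_option maxHeartbeats 400000
universe u

open CategoryTheory AlgebraicGeometry DirectSum

noncomputable section

namespace GrothLib.FiltLC27

open AssocGr

variable {A : Type u} [CommRing A] (𝓕 : FiltBl.IdealFiltration A)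

theorem cls_eq_mkG {n : ℕ} {x : A} (hx : x ∈ 𝓕.F n) : cls 𝓕 n x = mkG 𝓕 (monom 𝓕 n ⟨x, hx⟩ : 𝓕.rees) := by
  rw [cls_eq 𝓕 hx, coe_inDeg]

theorem algebraMap_eq_zero_of_mem {x : A} (hx : x ∈ 𝓕.F 1) : algebraMap A (GrRing 𝓕) x = 0 := by
  rw [AssocGr.algebraMap_eq, Submodule.coe_eq_zero, inDeg_eq_zero_iff]; exact hx

variable [IsLocalRing A] [IsDomain (GrRing 𝓕)]

theorem F_one_eq_maximalIdeal (hI : (𝓕.F 1).radical = IsLocalRing.maximalIdeal A) :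
    𝓕.F 1 = IsLocalRing.maximalIdeal A := by
  have htop : ∀ x : A, x ∈ 𝓕.F 0 := fun x => by rw [𝓕.zero_eq]; trivial
  have hp : (𝓕.F 1).IsPrime := by
    refine ⟨fun h => ?_, fun {x y} hxy => ?_⟩
    · refine one_ne_zero (α := GrRing 𝓕) ?_
      rw [← map_one (algebraMap A (GrRing 𝓕))]
      exact algebraMap_eq_zero_of_mem 𝓕 (h ▸ Submodule.mem_top)
    · by_contra hh
      push_neg at hh
      refine mul_ne_zero (fun h => hh.1 ((cls_eq_zero_iff 𝓕 (htop x)).1 h))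
        (fun h => hh.2 ((cls_eq_zero_iff 𝓕 (htop y)).1 h)) ((cls_mul 𝓕 (htop x) (htop y)).trans ?_)
      exact (cls_eq_zero_iff 𝓕 (htop (x * y))).2 hxy
  rw [← hI, hp.radical]

theorem isFiniteLength [IsNoetherianRing A] [Algebra.FiniteType A 𝓕.rees] [IsDomain A]
    (hI : (𝓕.F 1).radical = IsLocalRing.maximalIdeal A)
    (hr : ∀ r : ℕ, 2 ≤ r → ∃ n : ℕ, ¬ r ∣ n ∧ gr 𝓕 n ≠ ⊥)
    (hcart : PicF.IsInvertible (GrTwist.twist (Rees.deg 𝓕.rees) 1))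
    (hnor : ∀ x : Proj (gr 𝓕), IsDomain ((Proj (gr 𝓕)).presheaf.stalk x) ∧
      IsIntegrallyClosed ((Proj (gr 𝓕)).presheaf.stalk x))
    (L : Type u) [Field L] [Algebra (GrRing 𝓕) L] [IsFractionRing (GrRing 𝓕) L] :
    IsFiniteLength (GrRing 𝓕) (GrNormal27.NQ (G := GrRing 𝓕) L) := by
  classical
  haveI : IsNoetherianRing 𝓕.rees := Algebra.FiniteType.isNoetherianRing A _
  haveI : IsNoetherianRing (GrRing 𝓕) := isNoetherianRing_of_surjective 𝓕.rees (GrRing 𝓕) (mkG 𝓕).toRingHom (mkG_surjective 𝓕)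
  haveI : IsDomain 𝓕.rees := inferInstance
  haveI hmax : (𝓕.F 1).IsMaximal := by rw [F_one_eq_maximalIdeal 𝓕 hI]; infer_instance
  letI : Field (A ⧸ 𝓕.F 1) := Ideal.Quotient.field _
  let ψ : A ⧸ 𝓕.F 1 →+* GrRing 𝓕 :=
    Ideal.Quotient.lift _ (algebraMap A (GrRing 𝓕)) fun x hx => algebraMap_eq_zero_of_mem 𝓕 hx
  letI : Algebra (A ⧸ 𝓕.F 1) (GrRing 𝓕) := ψ.toAlgebra
  haveI : IsScalarTower A (A ⧸ 𝓕.F 1) (GrRing 𝓕) := IsScalarTower.of_algebraMap_eq fun _ => rfl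
  let 𝒢 : ℕ → Submodule (A ⧸ 𝓕.F 1) (GrRing 𝓕) := fun n =>
    { (gr 𝓕 n).toAddSubmonoid with
      smul_mem' := fun c x hx => by
        obtain ⟨c, rfl⟩ := Ideal.Quotient.mk_surjective c
        have e : (Ideal.Quotient.mk (𝓕.F 1) c) • x = c • x := by
          rw [← Ideal.Quotient.algebraMap_eq, algebraMap_smul]
        change (Ideal.Quotient.mk (𝓕.F 1) c) • x ∈ gr 𝓕 n
        rw [e]
        exact (gr 𝓕 n).smul_mem c hx }
  letI : GradedAlgebra 𝒢 :=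
    { one_mem := (SetLike.GradedOne.one_mem : (1 : GrRing 𝓕) ∈ gr 𝓕 0)
      mul_mem := fun i j x y hx hy => (SetLike.GradedMul.mul_mem (A := gr 𝓕) hx hy : x * y ∈ gr 𝓕 (i + j))
      decompose' := fun x => (DirectSum.decompose (gr 𝓕) x)
      left_inv := fun x => Decomposition.left_inv (ℳ := gr 𝓕) x
      right_inv := fun x => Decomposition.right_inv (ℳ := gr 𝓕) x }
  have h0 : ∀ x ∈ 𝒢 0, x ∈ Set.range (algebraMap (A ⧸ 𝓕.F 1) (GrRing 𝓕)) := fun x hx => by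
    obtain ⟨a, ha, rfl⟩ := exists_cls_eq 𝓕 (hx : x ∈ gr 𝓕 0)
    refine ⟨Ideal.Quotient.mk _ a, ?_⟩
    change algebraMap A (GrRing 𝓕) a = _
    rw [AssocGr.algebraMap_eq, cls_eq 𝓕 ha]
  refine GrNormal27.isFiniteLength_of_normal 𝒢 h0 L fun p hp hle => ?_
  -- a homogeneous element of positive degree outside `p`
  obtain ⟨N, T, hN, hT, hTp⟩ : ∃ (N : ℕ) (T : A), 0 < N ∧ T ∈ 𝓕.F N ∧ cls 𝓕 N T ∉ p := by
    rw [GrNormal27.irrelevant_eq_span, Ideal.span_le] at hle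
    obtain ⟨g, ⟨N, hN, hg⟩, hgp⟩ := Set.not_subset.1 hle
    obtain ⟨T, hT, rfl⟩ := exists_cls_eq 𝓕 (hg : g ∈ gr 𝓕 N)
    exact ⟨N, T, hN, hT, hgp⟩
  set P : HomogeneousIdeal (gr 𝓕) := p.homogeneousCore (gr 𝓕) with hPdef
  have hPp : P.toIdeal ≤ p := Ideal.toIdeal_homogeneousCore_le _ p
  haveI hPprime : P.toIdeal.IsPrime := hp.homogeneousCore
  have hhom : ∀ (n : ℕ), ∀ x ∈ gr 𝓕 n, x ∈ p → x ∈ P.toIdeal := fun n x hx hxp =>
    Ideal.mem_homogeneousCore_of_homogeneous_of_mem ⟨n, hx⟩ hxp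
  have hTP : cls 𝓕 N T ∉ P.toIdeal := fun h => hTp (hPp h)
  have hxG : ¬ HomogeneousIdeal.irrelevant (gr 𝓕) ≤ P := fun h => hTP (h (by
    rw [HomogeneousIdeal.mem_irrelevant_iff, GradedRing.proj_apply]
    exact decompose_of_mem_ne (gr 𝓕) (cls_mem_gr 𝓕 N T) hN.ne'))
  let xG : ProjectiveSpectrum (gr 𝓕) := ⟨P, hPprime, hxG⟩
  let e := (AlgebraicGeometry.Proj.stalkIso (gr 𝓕) xG).commRingCatIsoToRingEquiv
  haveI := (hnor xG).1
  haveI := (hnor xG).2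
  haveI hA0d : IsDomain (HomogeneousLocalization.AtPrime (gr 𝓕) P.toIdeal) :=
    e.symm.toMulEquiv.isDomain _
  haveI hA0c : IsIntegrallyClosed (HomogeneousLocalization.AtPrime (gr 𝓕) P.toIdeal) := IsIntegrallyClosed.of_equiv e
  -- the point of the blowing-up
  let Q : HomogeneousIdeal (Rees.deg 𝓕.rees) :=
    ⟨P.toIdeal.comap (mkG 𝓕).toRingHom, fun n f hf => by
      change mkG 𝓕 (decompose (Rees.deg 𝓕.rees) f n : 𝓕.rees) ∈ P.toIdeal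
      rw [← coe_decompose_mkG]
      exact P.isHomogeneous n hf⟩
  have hmon : ∀ {n : ℕ} {c : A} (hc : c ∈ 𝓕.F n),
      (monom 𝓕 n ⟨c, hc⟩ : 𝓕.rees) ∈ Q ↔ cls 𝓕 n c ∈ P.toIdeal := fun hc => by
    rw [cls_eq_mkG 𝓕 hc]; rfl
  have hQirr : ¬ HomogeneousIdeal.irrelevant (Rees.deg 𝓕.rees) ≤ Q := fun h => hTP ((hmon hT).1 (h (by
    rw [HomogeneousIdeal.mem_irrelevant_iff, GradedRing.proj_apply]
    exact decompose_of_mem_ne (Rees.deg 𝓕.rees) (monom 𝓕 N ⟨T, hT⟩).2 hN.ne')))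
  let xR : ProjectiveSpectrum (Rees.deg 𝓕.rees) := ⟨Q, hPprime.comap _, hQirr⟩
  obtain ⟨k, a₀, s₀, ha₀, hs₀, hs₀Q, hgen⟩ := exists_frac_gen hcart xR
  obtain ⟨⟨a, ha⟩, hae⟩ := monom_surjective 𝓕 (k + 1) ⟨a₀, ha₀⟩
  obtain ⟨⟨s, hs⟩, hse⟩ := monom_surjective 𝓕 k ⟨s₀, hs₀⟩
  have hae' : (monom 𝓕 (k + 1) ⟨a, ha⟩ : 𝓕.rees) = a₀ := congrArg Subtype.val hae
  have hse' : (monom 𝓕 k ⟨s, hs⟩ : 𝓕.rees) = s₀ := congrArg Subtype.val hse
  have hsP : cls 𝓕 k s ∉ P.toIdeal := fun h => hs₀Q (hse' ▸ (hmon hs).2 h)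
  have haP := exists_consecutive 𝓕 P.toIdeal hr hN hT hTP ha hs hsP fun i c v hc hv hvP => by
    obtain ⟨l, r₁, w₁, hr₁, hw₁, hw₁Q, hrel⟩ := hgen i (monom 𝓕 (i + 1) ⟨c, hc⟩ : 𝓕.rees) (monom 𝓕 i ⟨v, hv⟩ : 𝓕.rees)
      (monom 𝓕 (i + 1) ⟨c, hc⟩).2 (monom 𝓕 i ⟨v, hv⟩).2 fun h => hvP ((hmon hv).1 h)
    obtain ⟨⟨r, hr'⟩, hre⟩ := monom_surjective 𝓕 l ⟨r₁, hr₁⟩
    obtain ⟨⟨w, hw⟩, hwe⟩ := monom_surjective 𝓕 l ⟨w₁, hw₁⟩
    have hwe' : (monom 𝓕 l ⟨w, hw⟩ : 𝓕.rees) = w₁ := congrArg Subtype.val hwe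
    refine ⟨l, r, w, hr', hw, fun h => hw₁Q (hwe' ▸ (hmon hw).2 h), ?_⟩
    have hre' : (monom 𝓕 l ⟨r, hr'⟩ : 𝓕.rees) = r₁ := congrArg Subtype.val hre
    rw [← hwe', ← hae', ← hse', ← hre'] at hrel
    have h1 := congrArg (fun f : 𝓕.rees => Polynomial.eval (1 : A) (f : Polynomial A)) hrel
    simpa only [Subalgebra.coe_mul, coe_coe_monom, Polynomial.eval_mul, Polynomial.eval_monomial, one_pow,
      mul_one] using h1
  exact GrNormal27.isIntegrallyClosed_of_forall_mul L p fun y hy =>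
    GrNormal27.exists_mul_of_isIntegral (gr 𝓕) L p P.toIdeal hPp hhom P.isHomogeneous (cls_mem_gr 𝓕 (k + 1) a)
      (cls_mem_gr 𝓕 k s) haP hsP hy

end GrothLib.FiltLC27
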