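import Groth.Agent.Lib.InvExt.Gen
import Groth.Agent.Lib.RelTilde8.GenLoc

/-!
# A fraction generating the stalk of an invertible twisting sheaf
-/

set_option autoImplicit false
set_option backward.isDefEq.respectTransparency false
universe u

open CategoryTheory AlgebraicGeometry TopologicalSpace Opposite
open GrothLib.InvExt (mres IsGen)

noncomputable section

namespace GrothLib.FiltLC27

variable {A σ : Type u} [CommRing A] [IsDomain A] [SetLike σ A] [AddSubgroupClass σ A] {𝒜 : ℕ → σ} [GradedRing 𝒜]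

/-- If `O(1)` is invertible then near every point all fractions of degree one are multiples of a single one. -/
theorem exists_frac_gen (hL : PicF.IsInvertible (GrTwist.twist 𝒜 1)) (x : ProjectiveSpectrum 𝒜) :
    ∃ (j₀ : ℕ) (a₀ s₀ : A), a₀ ∈ 𝒜 (j₀ + 1) ∧ s₀ ∈ 𝒜 j₀ ∧ s₀ ∉ x.asHomogeneousIdeal ∧
      ∀ (j : ℕ) (a s : A), a ∈ 𝒜 (j + 1) → s ∈ 𝒜 j → s ∉ x.asHomogeneousIdeal →
        ∃ (l : ℕ) (r w : A), r ∈ 𝒜 l ∧ w ∈ 𝒜 l ∧ w ∉ x.asHomogeneousIdeal ∧ a * w * s₀ = r * a₀ * s := by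
  classical
  obtain ⟨V, e, hxV, he⟩ := InvExt.exists_gen_nhd hL (show Proj 𝒜 from x)
  obtain ⟨W, hxW, iW, i, j₀, ⟨a₀, ha₀⟩, ⟨s₀, hs₀⟩, nin, hd, hw⟩ :=
    (show GrTwist.sectN (𝒜 := 𝒜) (1 : ℤ) (op V) from e).2 ⟨x, hxV⟩
  have ha₀' : a₀ ∈ 𝒜 (j₀ + 1) := by
    rcases hd with h | h
    · rwa [show j₀ + 1 = i by omega]
    · rw [show a₀ = 0 from h]; exact zero_mem _
  refine ⟨j₀, a₀, s₀, ha₀', hs₀, nin ⟨x, hxW⟩, fun j a s ha hs hsx => ?_⟩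
  let T : (Proj 𝒜).Opens := W ⊓ ProjectiveSpectrum.basicOpen 𝒜 s
  have hTV : T ≤ V := inf_le_left.trans iW.le
  have hxT : x ∈ T := ⟨hxW, hsx⟩
  have hin : ∀ y : T, s ∉ y.1.asHomogeneousIdeal := fun y => y.2.2
  let t : Γ(GrTwist.twist 𝒜 1, T) := (show GrTwist.sectN (𝒜 := 𝒜) (1 : ℤ) (op T) from
    ⟨fun y => ⟨Localization.mk a ⟨s, hin y⟩,
        Submodule.subset_span ⟨j + 1, j, ⟨a, ha⟩, ⟨s, hs⟩, hin y, by push_cast; rfl, rfl⟩⟩,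
      fun y => ⟨T, y.2, 𝟙 _, j + 1, j, ⟨a, ha⟩, ⟨s, hs⟩, hin, Or.inl (by push_cast; rfl), fun _ => rfl⟩⟩)
  obtain ⟨c, hc⟩ := he.exists_smul_eq hTV t
  have h1 := congrArg (fun u => GrTwist.val u ⟨x, hxT⟩) hc
  have h2 : GrTwist.val (mres (GrTwist.twist 𝒜 1) hTV e) ⟨x, hxT⟩ = Localization.mk a₀ ⟨s₀, nin ⟨x, hxW⟩⟩ :=
    hw ⟨x, hxW⟩
  have h3 : GrTwist.val t ⟨x, hxT⟩ = Localization.mk a ⟨s, hsx⟩ := rfl
  simp only [RelTilde8.val_smul_twist, h2, h3] at h1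
  set q := (show GrTwist.O (𝒜 := 𝒜) (op T) from c).1 ⟨x, hxT⟩
  refine ⟨q.deg, q.num, q.den, q.num_mem_deg, q.den_mem_deg, q.den_mem, ?_⟩
  rw [q.eq_num_div_den, Localization.mk_mul, Localization.mk_eq_mk_iff, Localization.r_iff_exists] at h1
  obtain ⟨d, hd⟩ := h1
  have hd0 : (d : A) ≠ 0 := fun h => d.2 (h ▸ zero_mem _)
  have h4 := mul_left_cancel₀ hd0 hd
  simp only [Submonoid.coe_mul] at h4
  linear_combination h4

end GrothLib.FiltLC27
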