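import Groth.Agent.Lib.FiltLC27.Grade
import Groth.Agent.Lib.GrLC.High
import Groth.Agent.Lib.GrLC.Pieces
import Groth.Agent.Lib.GrLC.Exists
import Groth.Agent.S13224
import Groth.Agent.Lib.LC.Seq
import Groth.Agent.Lib.LC.FlatBC
import Groth.Agent.Lib.ReesGr1.Laurent

/-!
# Vanishing of local cohomology of an extended Rees algebra from that of the associated graded ring
-/

set_option autoImplicit false
universe u

open DirectSum CategoryTheory Limits LaurentPolynomial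
open scoped TensorProduct

noncomputable section

namespace GrothLib.FiltLC27

open GrothLib.GrLC

variable {A : Type u} [CommRing A] (𝓕 : FiltBl.IdealFiltration A)

theorem exists_high (hN : IsNoetherianRing 𝓕.extRees)
    (E : _root_.GrLC.StarInjRes (piece 𝓕) (piece 𝓕)) (q : ℕ) :
    ∃ b : ℤ, ∀ g : ℤ, b ≤ g → E.Hcomp (posIdeal 𝓕) q g = ⊥ := by
  classical
  obtain ⟨s, hs, hsp⟩ := (Submodule.fg_span_iff_fg_span_finset_subset (R := 𝓕.extRees) (posSet 𝓕)).1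
    (IsNoetherian.noetherian _)
  have hdeg : ∀ t ∈ s, ∃ n : ℤ, 0 < n ∧ t ∈ piece 𝓕 n := fun t ht => by
    obtain ⟨n, hn, a, ha⟩ := hs ht
    exact ⟨n, hn, mem_piece_of_eq 𝓕 ha⟩
  choose d hd hdm using hdeg
  let l : List (HElt (piece 𝓕)) := s.toList.attach.map fun t =>
    ⟨t.1, d t.1 (Finset.mem_toList.1 t.2), hdm t.1 (Finset.mem_toList.1 t.2)⟩
  have hl : ∀ y ∈ l, 0 < y.deg := fun y hy => by
    obtain ⟨t, -, rfl⟩ := List.mem_map.1 hy; exact hd _ _
  have hval : {r | ∃ y ∈ l, y.val = r} = (s : Set 𝓕.extRees) := by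
    ext r
    constructor
    · rintro ⟨y, hy, rfl⟩
      obtain ⟨t, -, rfl⟩ := List.mem_map.1 hy
      exact Finset.mem_toList.1 t.2
    · exact fun hr => ⟨_, List.mem_map.2 ⟨⟨r, Finset.mem_toList.2 hr⟩, List.mem_attach _ _, rfl⟩, rfl⟩
  have hval' : {r | ∃ y ∈ l, 0 < y.deg ∧ y.val = r} = (s : Set 𝓕.extRees) := by
    rw [← hval]
    ext r
    exact ⟨fun ⟨y, hy, _, e⟩ => ⟨y, hy, e⟩, fun ⟨y, hy, e⟩ => ⟨y, hy, hl y hy, e⟩⟩
  have hspan : (hspan l).toIdeal = (posIdeal 𝓕).toIdeal := by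
    rw [toIdeal_hspan, hval]
    exact hsp.symm
  have hgen : ∀ n : ℤ, 0 < n → ∀ r ∈ piece 𝓕 n, r ∈ Ideal.span {r | ∃ y ∈ l, 0 < y.deg ∧ y.val = r} :=
    fun n hn r hr => by
      rw [hval']
      exact hsp.le (Ideal.subset_span (mem_posSet_of_mem_piece 𝓕 hn hr))
  obtain ⟨b, hb⟩ := exists_high_van (fun y hy => (hl y hy).le) hgen (gmod (piece 𝓕) (piece 𝓕))
    (inferInstanceAs (Module.Finite 𝓕.extRees 𝓕.extRees))
  refine ⟨b, fun g hg => ?_⟩
  obtain ⟨e⟩ := nonempty_HP_equiv_Hcomp E hspan q g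
  haveI := subsingleton_HP _ (hb q g hg)
  haveI := e.symm.toEquiv.subsingleton
  exact Submodule.eq_bot_of_subsingleton

theorem Hcomp_eq_bot (hN : IsNoetherianRing 𝓕.extRees)
    (E : _root_.GrLC.StarInjRes (piece 𝓕) (piece 𝓕)) (q : ℕ)
    (hu : ∀ x : E.H (posIdeal 𝓕) q, ∃ y : E.H (posIdeal 𝓕) q, 𝓕.u • y = x) :
    Subsingleton (E.H (posIdeal 𝓕) q) := by
  classical
  obtain ⟨b, hb⟩ := exists_high 𝓕 hN E q
  set a := posIdeal 𝓕
  have key : ∀ (t : ℕ) (g : ℤ), b ≤ g + t → E.Hcomp a q g = ⊥ := by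
    intro t
    induction t with
    | zero => exact fun g hg => hb g (by simpa using hg)
    | succ t ih =>
      intro g hg
      refine (Submodule.eq_bot_iff _).2 ?_
      rintro _ ⟨z, hz, rfl⟩
      obtain ⟨y, hy⟩ := hu (E.toH a q z)
      obtain ⟨w, rfl⟩ := Submodule.Quotient.mk_surjective _ y
      have hd : 𝓕.u • (w : (E.X q).carrier) - z.1 ∈ E.cobdy a q := by
        have := (Submodule.Quotient.eq _).1 ((Submodule.Quotient.mk_smul _ 𝓕.u w).trans hy)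
        exact this
      have hd' : cmp (E.X q).gr g (𝓕.u • (w : (E.X q).carrier) - z.1) ∈ E.cobdy a q :=
        isHomogeneous_cobdy E a q g hd
      rw [map_sub, cmp_of_mem _ hz, cmp_smul_of_mem (E.X q).gr (u_mem_piece 𝓕), sub_neg_eq_add] at hd'
      let w' : E.cocyc a q := ⟨_, isHomogeneous_cocyc E a q (g + 1) w.2⟩
      have hw' : E.toH a q w' ∈ E.Hcomp a q (g + 1) := ⟨w', cmp_mem _ _ _, rfl⟩
      rw [ih (g + 1) (by push_cast at hg ⊢; omega), Submodule.mem_bot] at hw'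
      have e : E.toH a q z = 𝓕.u • E.toH a q w' := by
        rw [← map_smul]
        refine ((Submodule.Quotient.eq _).2 ?_).symm
        exact hd'
      rw [e, hw', smul_zero]
  refine subsingleton_of_forall_eq 0 fun x => ?_
  obtain ⟨z, rfl⟩ := Submodule.Quotient.mk_surjective _ x
  obtain ⟨S, hS⟩ := exists_sum_cmp (E.X q).gr z.1
  have hz : z = ∑ g ∈ S, (⟨_, isHomogeneous_cocyc E a q g z.2⟩ : E.cocyc a q) :=
    Subtype.ext (by rw [AddSubmonoidClass.coe_finsetSum]; exact hS)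
  rw [hz]
  refine (map_sum (E.toH a q) _ _).trans (Finset.sum_eq_zero fun g _ => ?_)
  refine (Submodule.mem_bot (GrLC.deg0 (piece 𝓕))).1 ?_
  rw [← key (b - g).toNat g (by omega)]
  exact ⟨⟨_, isHomogeneous_cocyc E a q g z.2⟩, cmp_mem _ _ _, rfl⟩

theorem map_smul_id_apply {R : Type u} [CommRing R] (I : Ideal R) (i : ℕ) (M : ModuleCat.{u} R) (r : R)
    (x : (localCohomology I i).obj M) : (localCohomology I i).map (r • 𝟙 M) x = r • x := by
  obtain ⟨n, e, rfl⟩ := LC.exists_toH I x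
  rw [LC.map_toH]
  have h : e.comp (Abelian.Ext.mk₀ (r • 𝟙 M)) (add_zero i) = r • e := by
    rw [Abelian.Ext.mk₀_smul, Abelian.Ext.comp_smul, Abelian.Ext.comp_mk₀_id]
  rw [h, map_smul]

theorem subsingleton_H_extRees [IsNoetherianRing A] [IsNoetherianRing 𝓕.extRees] (q : ℕ)
    (hG : Subsingleton (LocCoh.H ((posIdeal 𝓕).toIdeal.map (Ideal.Quotient.mk (Ideal.span {𝓕.u}))) q 𝓕.Gr)) :
    Subsingleton (LocCoh.H (posIdeal 𝓕).toIdeal q 𝓕.extRees) := by
  set a := posIdeal 𝓕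
  let f : ModuleCat.of 𝓕.extRees 𝓕.extRees ⟶ ModuleCat.of 𝓕.extRees 𝓕.extRees :=
    𝓕.u • 𝟙 (ModuleCat.of 𝓕.extRees 𝓕.extRees)
  let g : ModuleCat.of 𝓕.extRees 𝓕.extRees ⟶ ModuleCat.of 𝓕.extRees 𝓕.Gr :=
    ModuleCat.ofHom (Submodule.mkQ (Ideal.span {𝓕.u}))
  have hS : (ShortComplex.mk f g (ModuleCat.hom_ext (LinearMap.ext fun x =>
      (Submodule.Quotient.mk_eq_zero _).2 (Ideal.mul_mem_right x _ (Ideal.mem_span_singleton_self _))))).ShortExact :=
    { exact := (ShortComplex.moduleCat_exact_iff _).2 fun x hx => by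
        obtain ⟨c, hc⟩ := Ideal.mem_span_singleton'.1 ((Submodule.Quotient.mk_eq_zero _).1 hx)
        exact ⟨c, (mul_comm _ _).trans hc⟩
      mono_f := (ModuleCat.mono_iff_injective _).2 fun x y h =>
        mem_nonZeroDivisors_iff_left.1 (ReesGr1.u_mem_nonZeroDivisors 𝓕) |> fun hh => by
          have h' : 𝓕.u * (show 𝓕.extRees from x) = 𝓕.u * (show 𝓕.extRees from y) := h
          exact sub_eq_zero.1 (hh _ (by rw [mul_sub, h', sub_self]))
      epi_g := (ModuleCat.epi_iff_surjective _).2 (Submodule.mkQ_surjective _) }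
  have hG' : Subsingleton ((localCohomology a.toIdeal q).obj (ModuleCat.of 𝓕.extRees 𝓕.Gr)) :=
    (LC.subsingleton_map_iff (R' := 𝓕.Gr) a.toIdeal q 𝓕.Gr).1 hG
  have hu : ∀ x : LocCoh.H a.toIdeal q 𝓕.extRees, ∃ y : LocCoh.H a.toIdeal q 𝓕.extRees, 𝓕.u • y = x := by
    intro x
    obtain ⟨y, hy⟩ := LC.exists_of_map_g_eq_zero a.toIdeal hS q (x := x) (Subsingleton.elim _ _)
    exact ⟨y, (map_smul_id_apply a.toIdeal q _ 𝓕.u y).symm.trans hy⟩
  let E := starInjRes (𝒜 := piece 𝓕) (ℳ := piece 𝓕)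
  obtain ⟨e⟩ := Groth.Agent.S13224.result 𝓕.extRees (piece 𝓕) a 𝓕.extRees (piece 𝓕) E q
  haveI := Hcomp_eq_bot 𝓕 inferInstance E q fun x => by
    obtain ⟨y, hy⟩ := hu (e x)
    exact ⟨e.symm y, e.injective (by rw [map_smul, e.apply_symm_apply, hy])⟩
  exact e.symm.toEquiv.subsingleton

theorem subsingleton_H_base [IsNoetherianRing A] [IsNoetherianRing 𝓕.extRees] (q : ℕ)
    (h : Subsingleton (LocCoh.H (posIdeal 𝓕).toIdeal q 𝓕.extRees)) :
    Subsingleton (LocCoh.H (𝓕.F 1) q A) := by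
  haveI : Module.Flat 𝓕.extRees A[T;T⁻¹] := IsLocalization.flat A[T;T⁻¹] (Submonoid.powers 𝓕.u)
  haveI := ReesGr1.faithfullyFlat_laurent (A := A)
  have hmap : (posIdeal 𝓕).toIdeal.map (algebraMap 𝓕.extRees A[T;T⁻¹]) =
      (𝓕.F 1).map (algebraMap A A[T;T⁻¹]) := by
    refine le_antisymm ?_ (Ideal.map_le_iff_le_comap.2 fun a ha => ?_)
    · change (Ideal.span (posSet 𝓕)).map _ ≤ _
      rw [Ideal.map_span, Ideal.span_le]
      rintro _ ⟨x, ⟨n, hn, a, hx⟩, rfl⟩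
      rw [ReesGr1.algebraMap_laurent, hx]
      refine Ideal.mul_mem_right _ _ ?_
      rw [show (C a : A[T;T⁻¹]) = algebraMap A A[T;T⁻¹] a from rfl]
      refine Ideal.mem_map_of_mem _ (𝓕.antitone (show 1 ≤ n.toNat by omega) ?_)
      have := x.2 n
      rwa [hx, coeff_C_T, if_pos rfl] at this
    · have hm : algebraMap 𝓕.extRees A[T;T⁻¹] (ReesGr1.mon 𝓕 a 1 ha) ∈
          (posIdeal 𝓕).toIdeal.map (algebraMap 𝓕.extRees A[T;T⁻¹]) :=
        Ideal.mem_map_of_mem _ (Ideal.subset_span ⟨1, one_pos, a, rfl⟩)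
      have := Ideal.mul_mem_right (T (-1) : A[T;T⁻¹]) _ hm
      rw [Ideal.mem_comap, show algebraMap A A[T;T⁻¹] a = C a from rfl]
      convert this using 1
      rw [ReesGr1.algebraMap_laurent]
      change C a = C a * T 1 * T (-1)
      rw [mul_assoc, ← T_add, add_neg_cancel, T_zero, mul_one]
  obtain ⟨e₁⟩ := LC.nonempty_baseChange_equiv (R' := A[T;T⁻¹]) (posIdeal 𝓕).toIdeal q 𝓕.extRees
  haveI : Subsingleton (A[T;T⁻¹] ⊗[𝓕.extRees]
      (localCohomology (posIdeal 𝓕).toIdeal q).obj (ModuleCat.of 𝓕.extRees 𝓕.extRees)) := inferInstance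
  have h₁ : Subsingleton ((localCohomology ((𝓕.F 1).map (algebraMap A A[T;T⁻¹])) q).obj
      (ModuleCat.of A[T;T⁻¹] A[T;T⁻¹])) := by
    haveI := e₁.symm.toEquiv.subsingleton
    rw [← hmap]
    exact ((localCohomology _ q).mapIso
      (TensorProduct.AlgebraTensorModule.rid 𝓕.extRees A[T;T⁻¹] A[T;T⁻¹]).toModuleIso).symm.toLinearEquiv.toEquiv.subsingleton
  obtain ⟨e₂⟩ := LC.nonempty_baseChange_equiv (R' := A[T;T⁻¹]) (𝓕.F 1) q A
  haveI : Subsingleton (A[T;T⁻¹] ⊗[A] (localCohomology (𝓕.F 1) q).obj (ModuleCat.of A A)) := by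
    haveI := h₁
    haveI := ((localCohomology ((𝓕.F 1).map (algebraMap A A[T;T⁻¹])) q).mapIso
      (TensorProduct.AlgebraTensorModule.rid A A[T;T⁻¹] A[T;T⁻¹]).toModuleIso).toLinearEquiv.toEquiv.subsingleton
    exact e₂.toEquiv.subsingleton
  exact (Module.FaithfullyFlat.subsingleton_tensorProduct_iff_right A A[T;T⁻¹]).1 this

end GrothLib.FiltLC27
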